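import Cfsg.Agent.H706.RealBasic
import Cfsg.Agent.H865.RhoEleven
import Cfsg.Agent.H711.Crit_m3
import Cfsg.Agent.FastGrp
import Cfsg.Agent.Prune
set_option linter.all false
prune_inst 0x7f00000000000000000000000000000000000000000000000000000000000000000000000000000000000000000000000000000000000000000000000000000000000000000000000000000000000000003fffffffffffffffffffffffffffbeffbdffffffff
open scoped Cfsg.Agent.FastGrp

/-!
# Real elements in Sylow subgroups of prime order (helper462)

* `isConj_inv_of_even` : `|P| = p`, `|N(P) : C(P)|` even: the elements of `P` are real.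
* `exists_even` : the same from `|G|_p = p` and the orders.
* `hasReal_fermat` : `p ∈ {3, 5, 17}`, `|G|_p = p`, `G` nonabelian simple.
-/

set_option autoImplicit false

namespace Cfsg.Agent.H462.RealJ

open Subgroup Cfsg.Agent.H702.RealB0 Cfsg.Agent.H706.RealB

section

variable {G : Type*} [Group G] [Finite G] {p : ℕ} [hp : Fact p.Prime]

/-- an element of a subgroup of prime order with an automizer of even order is real -/
theorem isConj_inv_of_even {P : Subgroup G} (hP : Nat.card P = p) {j c : ℕ}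
    (hC : Nat.card (centralizer (P : Set G)) = c) (hN : Nat.card (normalizer (P : Set G)) = j * c) (hj : Even j)
    {x : G} (hx : x ∈ P) : IsConj x x⁻¹ := by
  by_cases hx1 : x = 1
  · subst hx1
    rw [inv_one]
  have hcP : IsCyclic P := isCyclic_of_prime_card hP
  let C' : Subgroup (normalizer (P : Set G)) := (centralizer (P : Set G)).subgroupOf (normalizer (P : Set G))
  have hCn : C'.Normal := by
    show ((centralizer (P : Set G)).subgroupOf (normalizer (P : Set G))).Normal
    rw [← Subgroup.normalizerMonoidHom_ker]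
    infer_instance
  have hc0 : 0 < c := by rw [← hC]; exact Nat.card_pos
  have hC' : Nat.card C' = c := by
    rw [← hC]
    exact Nat.card_congr (Subgroup.subgroupOfEquivOfLe (centralizer_le_normalizer (P : Set G))).toEquiv
  have hQ : Nat.card (normalizer (P : Set G) ⧸ C') = j := by
    have h1 := C'.card_eq_card_quotient_mul_card_subgroup
    rw [hN, hC'] at h1
    exact (Nat.eq_of_mul_eq_mul_right hc0 h1).symm
  have h2 : Fact (Nat.Prime 2) := ⟨Nat.prime_two⟩
  obtain ⟨q, hq⟩ := exists_prime_orderOf_dvd_card' (G := normalizer (P : Set G) ⧸ C') 2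
    (by rw [hQ]; exact hj.two_dvd)
  obtain ⟨n, rfl⟩ := QuotientGroup.mk_surjective q
  have hn1 : (n : G) ∉ centralizer (P : Set G) := by
    intro h
    have h3 : ((n : normalizer (P : Set G)) : normalizer (P : Set G) ⧸ C') = 1 := (QuotientGroup.eq_one_iff n).2 h
    rw [h3, orderOf_one] at hq
    omega
  have hn2 : (n : G) * n ∈ centralizer (P : Set G) := by
    have h3 := pow_orderOf_eq_one (n : normalizer (P : Set G) ⧸ C')
    rw [hq, pow_two, ← QuotientGroup.mk_mul] at h3
    exact (QuotientGroup.eq_one_iff (N := C') (n * n)).1 h3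
  have hz : P = zpowers x := by
    symm
    apply eq_of_le_of_card_ge (zpowers_le.2 hx)
    have h4 : Nat.card (zpowers x) ∣ p := hP ▸ card_dvd_of_le (zpowers_le.2 hx)
    rcases (Nat.dvd_prime hp.out).1 h4 with h5 | h5
    · exfalso
      rw [Nat.card_zpowers, orderOf_eq_one_iff] at h5
      exact hx1 h5
    · rw [h5, hP]
  have hxp : orderOf x = p := by rw [← Nat.card_zpowers, ← hz, hP]
  have hcx : ∀ g : G, g ∈ centralizer (P : Set G) ↔ g * x = x * g := by
    intro g
    rw [hz, H858.NormC.centralizer_zpowers, mem_centralizer_singleton_iff]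
  have h6 : (n : G) * x * (n : G)⁻¹ ∈ zpowers x := by
    rw [← hz]
    exact (mem_normalizer_iff.1 n.2 x).1 hx
  obtain ⟨k, hk⟩ := h6
  simp only at hk
  have h7 : x ^ (k * k) = x := by
    rw [zpow_mul, hk, conj_zpow, hk]
    have h8 := (hcx _).1 hn2
    calc (n : G) * (n * x * (n : G)⁻¹) * (n : G)⁻¹ = (n * n) * x * ((n : G) * n)⁻¹ := by group
      _ = x := by rw [h8]; group
  have h9 : x ^ (k * k - 1) = 1 := by rw [zpow_sub, h7, zpow_one, mul_inv_cancel]
  have h10 : (p : ℤ) ∣ (k - 1) * (k + 1) := by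
    rw [← hxp, orderOf_dvd_iff_zpow_eq_one, show (k - 1) * (k + 1) = k * k - 1 by ring]
    exact h9
  rcases (Nat.prime_iff_prime_int.1 hp.out).dvd_or_dvd h10 with h11 | h11
  · exfalso
    rw [← hxp, orderOf_dvd_iff_zpow_eq_one, zpow_sub, zpow_one, mul_inv_eq_one] at h11
    apply hn1
    rw [hcx]
    rw [h11] at hk
    calc (n : G) * x = (n * x * (n : G)⁻¹) * n := by group
      _ = x * n := by rw [← hk]
  · rw [← hxp, orderOf_dvd_iff_zpow_eq_one, zpow_add, zpow_one] at h11
    rw [isConj_iff]
    exact ⟨n, by rw [← hk]; exact eq_inv_of_mul_eq_one_left h11⟩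

/-- a real element of order `p` gives a real character in the principal block -/
theorem hasReal_of_real {x : G} (hx : orderOf x = p) (h : IsConj x x⁻¹) : HasReal p G :=
  hasReal_of_isConj_inv (hx ▸ dvd_refl _) h

theorem exists_sub (h : p ∣ Nat.card G) : ∃ P : Subgroup G, Nat.card P = p := by
  obtain ⟨y, hy⟩ := exists_prime_orderOf_dvd_card' (G := G) p h
  exact ⟨zpowers y, by rw [Nat.card_zpowers, hy]⟩

/-- a subgroup of order `p` with automizer of even order -/
theorem real_of_even {P : Subgroup G} (hP : Nat.card P = p) {j c : ℕ}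
    (hC : Nat.card (centralizer (P : Set G)) = c) (hN : Nat.card (normalizer (P : Set G)) = j * c) (hj : Even j) :
    ∃ x : G, orderOf x = p ∧ IsConj x x⁻¹ := by
  have h1 : Nat.card P ≠ 1 := by rw [hP]; exact hp.out.one_lt.ne'
  obtain ⟨x, hx⟩ := exists_prime_orderOf_dvd_card' (G := P) p (by rw [hP])
  refine ⟨x, by rw [Subgroup.orderOf_coe, hx], isConj_inv_of_even hP hC hN hj x.2⟩

/-- **Burnside** for Sylow subgroups of prime order of a nonabelian simple group -/
theorem exists_data' [IsSimpleGroup G] (hna : ¬ ∀ x y : G, x * y = y * x) {P : Subgroup G} (hP : Nat.card P = p)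
    (hpp : ¬ p * p ∣ Nat.card G) : ∃ j i m, j ∣ p - 1 ∧ j ≠ 1 ∧ i % p = 1 ∧
      Nat.card (centralizer (P : Set G)) = p * m ∧
      Nat.card (normalizer (P : Set G)) = j * (p * m) ∧ j * (p * m) * i = Nat.card G := by
  obtain ⟨j, i, m, h1, h2, h3, h4, h5⟩ := H859.PrimeSub.exists_data hP hpp
  refine ⟨j, i, m, h1, ?_, h2, h3, h4, h5⟩
  rintro rfl
  have hd : p ∣ Nat.card G := hP ▸ card_subgroup_dvd_card P
  refine H712.Gmn.not_normalizer_le_centralizer hna hd
    ((H858.NormC.isPGroup_of_card hP).toSylow (H858.NormC.not_dvd_index hP hpp)) ?_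
  show normalizer (P : Set G) ≤ centralizer (P : Set G)
  apply le_of_eq
  symm
  refine eq_of_le_of_card_ge (centralizer_le_normalizer (P : Set G)) ?_
  rw [h3, h4, one_mul]

/-- `p = 3, 5, 17`: real elements by Burnside's transfer theorem -/
theorem real_fermat [IsSimpleGroup G] (hna : ¬ ∀ x y : G, x * y = y * x) (hd : p ∣ Nat.card G)
    (hpp : ¬ p * p ∣ Nat.card G) (h : p = 3 ∨ p = 5 ∨ p = 17) : ∃ x : G, orderOf x = p ∧ IsConj x x⁻¹ := by
  obtain ⟨P, hP⟩ := exists_sub hd
  obtain ⟨j, i, m, h1, h2, -, h3, h4, -⟩ := exists_data' hna hP hpp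
  refine real_of_even hP h3 h4 ?_
  have h5 : ∃ a, j = 2 ^ a := by
    have h6 : ∃ b, p - 1 = 2 ^ b := by
      rcases h with rfl | rfl | rfl
      · exact ⟨1, rfl⟩
      · exact ⟨2, rfl⟩
      · exact ⟨4, rfl⟩
    obtain ⟨b, hb⟩ := h6
    rw [hb] at h1
    obtain ⟨a, -, ha⟩ := (Nat.dvd_prime_pow Nat.prime_two).1 h1
    exact ⟨a, ha⟩
  obtain ⟨a, rfl⟩ := h5
  rcases a with _ | a
  · exact absurd rfl h2
  · exact ⟨2 ^ a, by rw [pow_succ]; ring⟩

/-- a simple group whose order is not a prime is not abelian -/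
theorem nonab_of_card [IsSimpleGroup G] (h : ¬ (Nat.card G).Prime) : ¬ ∀ x y : G, x * y = y * x := by
  intro hcm
  let _ : CommGroup G := { (inferInstance : Group G) with mul_comm := hcm }
  exact h IsSimpleGroup.prime_card

omit [Finite G] in
theorem map_isConj_inv {H : Type*} [Group H] (f : G →* H) {x : G} (h : IsConj x x⁻¹) : IsConj (f x) (f x)⁻¹ := by
  rw [← map_inv]
  exact f.map_isConj h

end

end Cfsg.Agent.H462.RealJ
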